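import Groth.Prelude.Def_Versch
import Groth.Agent.L15.OT.Basic
import Mathlib.RingTheory.Finiteness.Projective
import Mathlib.Algebra.CharP.Lemmas

/-!
The Verschiebung of a finite projective commutative cocommutative Hopf algebra, computed through a dual basis.
-/

set_option autoImplicit false

noncomputable section

universe u v

open TensorProduct WithConv Coalgebra

namespace Groth.L14.Versch

section DualBasis

variable (R : Type u) [CommRing R] (A : Type v) [AddCommGroup A] [Module R A]
  [Module.Finite R A] [Module.Projective R A]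

theorem exists_dualBasis : ∃ (n : ℕ) (e : Fin n → A) (x : Fin n → CartDual.D R A),
    ∀ a : A, ∑ i, x i a • e i = a := by
  obtain ⟨n, f, g, -, -, hfg⟩ := Module.Finite.exists_comp_eq_id_of_projective R A
  refine ⟨n, fun i => f (Pi.single i 1), fun i => toConv (LinearMap.proj i ∘ₗ g), fun a => ?_⟩
  have h : f (g a) = a := LinearMap.congr_fun hfg a
  conv_rhs => rw [← h, pi_eq_sum_univ (g a), map_sum]
  refine Finset.sum_congr rfl fun i _ => ?_
  rw [map_smul]
  refine congrArg (g a i • f ·) (funext fun j => ?_)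
  simp [Pi.single_apply, eq_comm]

end DualBasis

section Conv

variable {R : Type u} [CommRing R] {A : Type v} [CommRing A] [HopfAlgebra R A]

/-- `x ↦ (a ↦ x a • e)`. -/
def scal (e : A) (x : CartDual.D R A) : WithConv (A →ₗ[R] A) :=
  toConv (LinearMap.toSpanSingleton R A e ∘ₗ x.ofConv)

theorem scal_apply (e : A) (x : CartDual.D R A) (a : A) : scal e x a = x a • e := rfl

theorem scal_mul (e e' : A) (x y : CartDual.D R A) :
    scal e x * scal e' y = scal (e * e') (x * y) := by
  apply WithConv.ext
  refine LinearMap.ext fun a => ?_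
  change (scal e x * scal e' y) a = (x * y) a • (e * e')
  rw [(ℛ R a).convMul_apply, (ℛ R a).convMul_apply, Finset.sum_smul]
  refine Finset.sum_congr rfl fun i _ => ?_
  rw [scal_apply, scal_apply, smul_mul_smul_comm]

theorem scal_one : scal (1 : A) (1 : CartDual.D R A) = 1 := by
  apply WithConv.ext
  refine LinearMap.ext fun a => ?_
  change (1 : CartDual.D R A) a • (1 : A) = (1 : WithConv (A →ₗ[R] A)) a
  rw [LinearMap.convOne_apply, LinearMap.convOne_apply, Algebra.algebraMap_self, RingHom.id_apply,
    Algebra.algebraMap_eq_smul_one]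

theorem scal_pow (e : A) (x : CartDual.D R A) (k : ℕ) : scal e x ^ k = scal (e ^ k) (x ^ k) := by
  induction k with
  | zero => simp [scal_one]
  | succ k ih => rw [pow_succ, pow_succ, pow_succ, ih, scal_mul]

theorem powConv_apply_eq {A : Type u} [CommRing A] [HopfAlgebra R A] (n : ℕ) (a : A) :
    SGA3b.powConv R A n a = (toConv (LinearMap.id : A →ₗ[R] A) ^ n) a :=
  LinearMap.congr_fun (congrArg WithConv.ofConv
    (AlgHom.toLinearMap_convPow (toConv (AlgHom.id R A)) n)) a

theorem pow_apply_one (x : CartDual.D R A) (k : ℕ) : (x ^ k) 1 = (x 1) ^ k := by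
  induction k with
  | zero => simp
  | succ k ih =>
    rw [pow_succ, pow_succ, LinearMap.convMul_apply, Bialgebra.comul_one, Algebra.TensorProduct.one_def,
      TensorProduct.map_tmul, LinearMap.mul'_apply]
    exact congrArg (· * _) ih

variable (R A) in
theorem algebraMap_injective : Function.Injective (algebraMap R A) := fun r s h => by
  simpa using congrArg (Bialgebra.counitAlgHom R A) h

end Conv

section Dual

variable {p : ℕ} [Fact p.Prime] {R : Type u} [CommRing R] [CharP R p]
  {A : Type v} [CommRing A] [HopfAlgebra R A] [Coalgebra.IsCocomm R A] [Module.Finite R A]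
  [Module.Projective R A] {v : A →+* FrobAlg.BaseChange p R A}

/-- The Verschiebung in a dual basis. -/
theorem isVersch_apply (hv : _root_.Versch.IsVerschiebung p R A v) {n : ℕ} (e : Fin n → A)
    (x : Fin n → CartDual.D R A) (hd : ∀ a : A, ∑ i, x i a • e i = a) (a : A) :
    v a = ∑ i, e i ⊗ₜ[R] FrobAlg.toTwist p R ((x i ^ p) a) := by
  refine _root_.Versch.evTw_injective p R A fun y => ?_
  rw [(_root_.Versch.isVerschiebung_iff p R A v).mp hv a y, map_sum]
  have hy : y = ∑ i, y (e i) • x i := by
    apply WithConv.ext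
    refine LinearMap.ext fun b => ?_
    conv_lhs => rw [← hd b]
    simp [WithConv.ofConv_sum, map_sum, mul_comm]
  have hp : (y ^ p) a = ∑ i, y (e i) ^ p * (x i ^ p) a := by
    conv_lhs => rw [hy, sum_pow_char]
    simp [WithConv.ofConv_sum, smul_pow]
  rw [hp, map_sum]
  refine Finset.sum_congr rfl fun i _ => ?_
  rw [_root_.Versch.evTw_tmul', map_mul]

end Dual

section Main

variable (p : ℕ) [Fact p.Prime] (R : Type u) [CommRing R] [CharP R p]
  (A : Type u) [CommRing A] [HopfAlgebra R A] [Coalgebra.IsCocomm R A] [Module.Finite R A]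
  [Module.Projective R A]

theorem charP_conv : CharP (WithConv (A →ₗ[R] A)) p := by
  haveI : CharP A p := charP_of_injective_algebraMap (algebraMap_injective R A) p
  haveI : Nontrivial A := CharP.nontrivial_of_char_ne_one (R := A) (v := p) (Fact.out : p.Prime).ne_one
  haveI : Nontrivial (WithConv (A →ₗ[R] A)) := by
    refine nontrivial_of_ne 1 0 fun h => one_ne_zero (α := A) ?_
    have h1 := congrArg (fun f : WithConv (A →ₗ[R] A) => f 1) h
    simpa using h1
  refine (CharP.charP_iff_prime_eq_zero (Fact.out : p.Prime)).mpr ?_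
  rw [← mul_one ((p : ℕ) : WithConv (A →ₗ[R] A)), ← nsmul_eq_mul]
  apply WithConv.ext
  refine LinearMap.ext fun a => ?_
  change p • (1 : WithConv (A →ₗ[R] A)) a = 0
  rw [nsmul_eq_mul, CharP.cast_eq_zero, zero_mul]

variable {p R A} {v : A →+* FrobAlg.BaseChange p R A}

variable (p R A) in
theorem powConv_prime_apply {n : ℕ} (e : Fin n → A) (x : Fin n → CartDual.D R A)
    (hd : ∀ a : A, ∑ i, x i a • e i = a) (a : A) :
    SGA3b.powConv R A p a = ∑ i, (x i ^ p) a • e i ^ p := by
  haveI := charP_conv p R A
  have hid : toConv (LinearMap.id : A →ₗ[R] A) = ∑ i, scal (e i) (x i) := by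
    apply WithConv.ext
    refine LinearMap.ext fun b => ?_
    simp only [WithConv.ofConv_sum, LinearMap.sum_apply]
    exact (hd b).symm
  rw [powConv_apply_eq, hid, sum_pow_char]
  simp only [scal_pow, WithConv.ofConv_sum, LinearMap.sum_apply]
  rfl

variable [CharP A p]

omit [Coalgebra.IsCocomm R A] [Module.Finite R A] [Module.Projective R A] in
theorem relFrob_tmul (b : A) (t : FrobAlg.Twist p R) :
    FrobAlg.relFrob p R A (b ⊗ₜ t) = b ^ p * algebraMap R A ((FrobAlg.toTwist p R).symm t) := rfl

/-- `V ∘ F = [p]`. -/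
theorem relFrob_comp (hv : _root_.Versch.IsVerschiebung p R A v) (a : A) :
    FrobAlg.relFrob p R A (v a) = SGA3b.powConv R A p a := by
  obtain ⟨n, e, x, hd⟩ := exists_dualBasis R A
  rw [isVersch_apply hv e x hd, powConv_prime_apply p R A e x hd, map_sum]
  refine Finset.sum_congr rfl fun i _ => ?_
  rw [relFrob_tmul, RingEquiv.symm_apply_apply, Algebra.smul_def, mul_comm]

omit [CharP A p] in
theorem smul_one_twist (r : R) :
    r • (1 : FrobAlg.Twist p R) = FrobAlg.toTwist p R (r ^ p) := by
  rw [Algebra.smul_def, mul_one, FrobAlg.algebraMap_twist]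

omit [CharP A p] in
theorem isVersch_algebraMap (hv : _root_.Versch.IsVerschiebung p R A v) (r : R) :
    v (algebraMap R A r) = (1 : A) ⊗ₜ[R] FrobAlg.toTwist p R r := by
  refine _root_.Versch.evTw_injective p R A fun y => ?_
  rw [(_root_.Versch.isVerschiebung_iff p R A v).mp hv _ y, _root_.Versch.evTw_tmul', ← map_mul]
  congr 1
  rw [Algebra.algebraMap_eq_smul_one, CartDual.coe_apply, map_smul, smul_eq_mul, mul_comm r]
  exact congrArg (· * r) (pow_apply_one y p)

omit [Fact p.Prime] [CharP A p] in
theorem charP_baseChange [Fact p.Prime] : CharP (FrobAlg.BaseChange p R A) p := by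
  haveI : Nontrivial R := CharP.nontrivial_of_char_ne_one (R := R) (v := p) (Fact.out : p.Prime).ne_one
  haveI : Nontrivial (FrobAlg.Twist p R) := (inferInstanceAs (Nontrivial R))
  haveI : Nontrivial (FrobAlg.BaseChange p R A) := by
    refine nontrivial_of_ne (1 : FrobAlg.BaseChange p R A) 0 fun h => one_ne_zero (α := FrobAlg.Twist p R) ?_
    have h1 := congrArg (_root_.Versch.evTw p R A (1 : CartDual.D R A)) h
    simpa [Algebra.TensorProduct.one_def] using h1
  refine (CharP.charP_iff_prime_eq_zero (Fact.out : p.Prime)).mpr ?_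
  rw [← map_natCast (algebraMap R (FrobAlg.BaseChange p R A)), CharP.cast_eq_zero, map_zero]

theorem isVersch_pow (hv : _root_.Versch.IsVerschiebung p R A v) (b : A) :
    v (b ^ p) = SGA3b.powConv R A p b ⊗ₜ[R] (1 : FrobAlg.Twist p R) := by
  haveI := charP_baseChange (p := p) (R := R) (A := A)
  obtain ⟨n, e, x, hd⟩ := exists_dualBasis R A
  rw [map_pow, isVersch_apply hv e x hd, powConv_prime_apply p R A e x hd, sum_pow_char,
    TensorProduct.sum_tmul]
  refine Finset.sum_congr rfl fun i _ => ?_
  rw [Algebra.TensorProduct.tmul_pow, ← map_pow, ← smul_one_twist, TensorProduct.tmul_smul,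
    TensorProduct.smul_tmul']

/-- `F ∘ V = [p]` on the Frobenius twist. -/
theorem comp_relFrob (hv : _root_.Versch.IsVerschiebung p R A v) (t : FrobAlg.Twist p R) (b : A) :
    v (FrobAlg.relFrob p R A (b ⊗ₜ t)) = SGA3b.powConv R A p b ⊗ₜ[R] t := by
  rw [relFrob_tmul, map_mul, isVersch_pow hv, isVersch_algebraMap hv,
    Algebra.TensorProduct.tmul_mul_tmul, mul_one, one_mul, RingEquiv.apply_symm_apply]

/-- If the Verschiebung is surjective, every `p^m`-th power is in the image of `[p^m]`. -/
theorem pow_mem_range (hv : _root_.Versch.IsVerschiebung p R A v) (hs : Function.Surjective v)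
    (m : ℕ) (a : A) : ∃ c, a ^ (p ^ m) = SGA3b.powConv R A (p ^ m) c := by
  have h1 : ∀ b : A, ∃ c, b ^ p = SGA3b.powConv R A p c := fun b => by
    obtain ⟨c, hc⟩ := hs (b ⊗ₜ (1 : FrobAlg.Twist p R))
    refine ⟨c, ?_⟩
    rw [← relFrob_comp hv, hc, relFrob_tmul, map_one, map_one, mul_one]
  induction m with
  | zero => exact ⟨a, by rw [pow_zero, pow_one, Groth.L15.OT.powConv_one]⟩
  | succ m ih =>
    obtain ⟨c, hc⟩ := ih
    obtain ⟨d, hd⟩ := h1 c
    refine ⟨d, ?_⟩
    rw [pow_succ, pow_mul, hc, ← map_pow, hd, Groth.L15.OT.powConv_powConv]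

end Main

end Groth.L14.Versch
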