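import Groth.Agent.L14.Versch.Basic
import Mathlib.RingTheory.Etale.Field
import Mathlib.FieldTheory.PurelyInseparable.PerfectClosure
import Mathlib.LinearAlgebra.Dual.Lemmas
import Mathlib.LinearAlgebra.TensorProduct.Basis

/-!
The dual of a finite commutative group scheme is etale exactly when the Verschiebung is bijective.
-/

set_option autoImplicit false
set_option linter.style.haveILetI false

noncomputable section

universe u v

open TensorProduct WithConv Coalgebra

namespace Groth.L14.Versch

section Frobenius

variable (p : ℕ) [Fact p.Prime] {k : Type u} [Field k] [CharP k p] {C : Type v} [CommRing C] [Algebra k C]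

theorem etale_of_span_pow [Module.Finite k C] [CharP C p]
    (h : Submodule.span k (Set.range fun x : C => x ^ p) = ⊤) : Algebra.Etale k C := by
  haveI : Algebra.FormallyUnramified k C := by
    constructor
    refine subsingleton_of_forall_eq 0 fun w => ?_
    have hw : w ∈ Submodule.span C (Set.range (KaehlerDifferential.D k C)) :=
      (KaehlerDifferential.span_range_derivation k C).symm ▸ Submodule.mem_top
    induction hw using Submodule.span_induction with
    | mem w hw =>
      obtain ⟨x, rfl⟩ := hw
      have hx : x ∈ Submodule.span k (Set.range fun x : C => x ^ p) := h.symm ▸ Submodule.mem_top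
      induction hx using Submodule.span_induction with
      | mem x hx =>
        obtain ⟨y, rfl⟩ := hx
        rw [Derivation.leibniz_pow, ← Nat.cast_smul_eq_nsmul C, CharP.cast_eq_zero, zero_smul]
      | zero => exact map_zero _
      | add x y _ _ hx hy => rw [map_add, hx, hy, add_zero]
      | smul c x _ hx => rw [Derivation.map_smul, hx, smul_zero]
    | zero => rfl
    | add x y _ _ hx hy => rw [hx, hy, add_zero]
    | smul c x _ hx => rw [hx, smul_zero]
  exact ⟨Algebra.FormallyEtale.of_formallyUnramified_of_field k C,
    Algebra.FinitePresentation.of_finiteType.mp inferInstance⟩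

theorem span_pow_of_isSeparable (L : Type v) [Field L] [Algebra k L] [Algebra.IsSeparable k L] :
    Submodule.span k (Set.range fun x : L => x ^ p) = ⊤ := by
  haveI : CharP L p := charP_of_injective_algebraMap (algebraMap k L).injective p
  haveI : ExpChar k p := ExpChar.prime Fact.out
  haveI : Algebra.IsAlgebraic k L := inferInstance
  have h := IntermediateField.adjoin_eq_adjoin_pow_expChar_of_isSeparable' k L (Set.univ : Set L) p
  rw [Set.image_univ, IntermediateField.adjoin_univ] at h
  have h2 := congrArg IntermediateField.toSubalgebra h
  rw [IntermediateField.top_toSubalgebra,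
    IntermediateField.adjoin_toSubalgebra_of_isAlgebraic (fun x _ => Algebra.IsAlgebraic.isAlgebraic x)] at h2
  have h3 := congrArg Subalgebra.toSubmodule h2
  rw [Algebra.top_toSubmodule, Algebra.adjoin_eq_span] at h3
  rw [eq_top_iff, h3, Submodule.span_le]
  intro x hx
  refine Submodule.subset_span ?_
  induction hx using Submonoid.closure_induction with
  | mem x hx => exact hx
  | one => exact ⟨1, one_pow p⟩
  | mul x y _ _ hx hy =>
    obtain ⟨a, rfl⟩ := hx
    obtain ⟨b, rfl⟩ := hy
    exact ⟨a * b, mul_pow a b p⟩

theorem span_pow_of_etale [Algebra.Etale k C] :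
    Submodule.span k (Set.range fun x : C => x ^ p) = ⊤ := by
  classical
  obtain ⟨I, hI, L, _, _, e, hsep⟩ :=
    (Algebra.FormallyEtale.iff_exists_algEquiv_prod (K := k) (A := C)).mp inferInstance
  haveI := Fintype.ofFinite I
  rw [eq_top_iff]
  rintro x -
  have key : ∀ (i : I) (y : L i), e.symm (Pi.single i y) ∈ Submodule.span k (Set.range fun x : C => x ^ p) := by
    intro i y
    haveI := hsep i
    have hy : y ∈ Submodule.span k (Set.range fun x : L i => x ^ p) :=
      (span_pow_of_isSeparable p (k := k) (L i)).symm ▸ Submodule.mem_top
    induction hy using Submodule.span_induction with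
    | mem y hy =>
      obtain ⟨z, rfl⟩ := hy
      refine Submodule.subset_span ⟨e.symm (Pi.single i z), ?_⟩
      change e.symm (Pi.single i z) ^ p = _
      rw [← map_pow]
      congr 1
      funext j
      by_cases hj : j = i
      · subst hj; simp
      · simp [hj, (Fact.out : p.Prime).ne_zero]
    | zero => simp
    | add y z _ _ hy hz => rw [Pi.single_add, map_add]; exact add_mem hy hz
    | smul c y _ hy => rw [Pi.single_smul, map_smul]; exact Submodule.smul_mem _ c hy
  rw [← e.symm_apply_apply x, ← Finset.univ_sum_single (e x), map_sum]
  exact Submodule.sum_mem _ fun i _ => key i _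

end Frobenius

section Dual

variable (p : ℕ) [Fact p.Prime] (k : Type u) [Field k] [CharP k p]
  (A : Type v) [CommRing A] [HopfAlgebra k A] [Coalgebra.IsCocomm k A] [FiniteDimensional k A]
variable {v : A →+* FrobAlg.BaseChange p k A}

theorem etale_dual_iff (hv : _root_.Versch.IsVerschiebung p k A v) :
    Algebra.Etale k (CartDual.D k A) ↔ Function.Bijective v := by
  classical
  have hev := (_root_.Versch.isVerschiebung_iff p k A v).mp hv
  constructor
  · intro h
    haveI := h
    have hs := span_pow_of_etale p (k := k) (C := CartDual.D k A)
    constructor
    · rw [injective_iff_map_eq_zero]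
      intro a ha
      have hkill : ∀ y : CartDual.D k A, y a = 0 := by
        intro y
        have hy : y ∈ Submodule.span k (Set.range fun x : CartDual.D k A => x ^ p) :=
          hs.symm ▸ Submodule.mem_top
        induction hy using Submodule.span_induction with
        | mem y hy =>
          obtain ⟨x, rfl⟩ := hy
          have h0 := hev a x
          rw [ha, map_zero] at h0
          exact ((FrobAlg.toTwist p k).map_eq_zero_iff).mp h0.symm
        | zero => rfl
        | add y z _ _ hy hz =>
          change y a + z a = 0
          rw [hy, hz, add_zero]
        | smul c y _ hy =>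
          change c * y a = 0
          rw [hy, mul_zero]
      exact (Module.forall_dual_apply_eq_zero_iff k a).mp fun φ => hkill (toConv φ)
    · intro w
      let bA := Module.finBasis k A
      let x : Fin (Module.finrank k A) → CartDual.D k A := fun i => toConv (bA.coord i)
      have hd : ∀ a : A, ∑ i, x i a • bA i = a := fun a => bA.sum_repr a
      have hli : LinearIndependent k fun i => x i ^ p := by
        refine linearIndependent_of_top_le_span_of_card_eq_finrank ?_ ?_
        · rw [← hs, Submodule.span_le]
          rintro _ ⟨y, rfl⟩
          have hy : y = ∑ i, y (bA i) • x i := by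
            apply WithConv.ext
            refine LinearMap.ext fun b => ?_
            conv_lhs => rw [← hd b]
            simp [WithConv.ofConv_sum, map_sum, mul_comm]
          change y ^ p ∈ Submodule.span k (Set.range fun i => x i ^ p)
          rw [hy, sum_pow_char]
          refine Submodule.sum_mem _ fun i _ => ?_
          rw [smul_pow]
          exact Submodule.smul_mem _ _ (Submodule.subset_span ⟨i, rfl⟩)
        · rw [Fintype.card_fin, (CartDual.toDual k A).finrank_eq, Subspace.dual_finrank_eq]
      -- the evaluation map of the powers is surjective
      let E : A →ₗ[k] (Fin (Module.finrank k A) → k) := LinearMap.pi fun i => (x i ^ p).ofConv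
      have hE : Function.Surjective E := by
        refine (LinearMap.injective_iff_surjective_of_finrank_eq_finrank (by rw [Module.finrank_fin_fun])).mp ?_
        rw [injective_iff_map_eq_zero]
        intro a ha
        have hkill : ∀ y : CartDual.D k A, y a = 0 := by
          intro y
          have htop : ⊤ ≤ Submodule.span k (Set.range fun i => x i ^ p) := by
            rw [hli.span_eq_top_of_card_eq_finrank']
            rw [Fintype.card_fin, (CartDual.toDual k A).finrank_eq, Subspace.dual_finrank_eq]
          have hy := htop (Submodule.mem_top (x := y))
          induction hy using Submodule.span_induction with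
          | mem y hy =>
            obtain ⟨i, rfl⟩ := hy
            exact congrFun ha i
          | zero => rfl
          | add y z _ _ hy hz =>
            change y a + z a = 0
            rw [hy, hz, add_zero]
          | smul c y _ hy =>
            change c * y a = 0
            rw [hy, mul_zero]
        exact (Module.forall_dual_apply_eq_zero_iff k a).mp fun φ => hkill (toConv φ)
      obtain ⟨t, rfl⟩ : ∃ t : Fin (Module.finrank k A) → FrobAlg.Twist p k, ∑ i, bA i ⊗ₜ[k] t i = w := by
        induction w using TensorProduct.induction_on with
        | zero => exact ⟨0, by simp⟩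
        | add y z hy hz =>
          obtain ⟨a, ha⟩ := hy
          obtain ⟨b, hb⟩ := hz
          exact ⟨a + b, by simp [tmul_add, Finset.sum_add_distrib, ha, hb]⟩
        | tmul a t =>
          refine ⟨fun i => bA.repr a i • t, ?_⟩
          conv_rhs => rw [← bA.sum_repr a, TensorProduct.sum_tmul]
          exact Finset.sum_congr rfl fun i _ => (TensorProduct.smul_tmul _ _ _).symm
      obtain ⟨a, ha⟩ := hE fun i => (FrobAlg.toTwist p k).symm (t i)
      refine ⟨a, ?_⟩
      rw [isVersch_apply hv bA x hd a]
      refine Finset.sum_congr rfl fun i _ => ?_
      rw [show (x i ^ p) a = (FrobAlg.toTwist p k).symm (t i) from congrFun ha i, RingEquiv.apply_symm_apply]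
  · intro h
    refine etale_of_span_pow p ?_
    set W := Submodule.span k (Set.range fun x : CartDual.D k A => x ^ p) with hW
    have hco : (W.map (CartDual.toDual k A).toLinearMap).dualCoannihilator = ⊥ := by
      rw [eq_bot_iff]
      intro a ha
      rw [Submodule.mem_dualCoannihilator] at ha
      rw [Submodule.mem_bot]
      apply h.1
      rw [map_zero]
      refine _root_.Versch.evTw_injective p k A fun x => ?_
      have h0 : (x ^ p) a = 0 := ha _ ⟨x ^ p, Submodule.subset_span ⟨x, rfl⟩, rfl⟩
      rw [hev a x, h0, map_zero, map_zero]
    have htop : W.map (CartDual.toDual k A).toLinearMap = ⊤ := by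
      rw [← Subspace.dualCoannihilator_dualAnnihilator_eq (W := W.map (CartDual.toDual k A).toLinearMap), hco,
        Submodule.dualAnnihilator_bot]
    rw [eq_top_iff]
    rintro y -
    have hy : (CartDual.toDual k A) y ∈ W.map (CartDual.toDual k A).toLinearMap := htop ▸ Submodule.mem_top
    obtain ⟨z, hz, hzy⟩ := hy
    exact (CartDual.toDual k A).injective hzy ▸ hz

end Dual

end Groth.L14.Versch
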